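import Groth.Agent.Lib.SchDom.Alg
import Groth.Agent.Lib.DBaseChange.TorAmp
import Mathlib.RingTheory.Flat.Basic
import Mathlib.RingTheory.TensorProduct.Free

/-!
# Acyclicity of a flat complex tested along a jointly surjective family of finitely generated algebras
-/

set_option autoImplicit false
set_option linter.style.haveILetI false
set_option backward.isDefEq.respectTransparency false
set_option maxHeartbeats 1000000

universe u

open CategoryTheory Limits TensorProduct

namespace Groth.Agent.FlatDesc4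

variable {A : Type u} [CommRing A] (P : DRing.Cx A)

/-- `P ⊗ N` is exact in negative degrees. -/
def Acyc (N : Type u) [AddCommGroup N] [Module A N] : Prop :=
  ∀ i j k : ℤ, i + 1 = j → j + 1 = k → j < 0 → ∀ x : P.X j ⊗[A] N, (P.d j k).hom.rTensor N x = 0 →
    ∃ y : P.X i ⊗[A] N, (P.d i j).hom.rTensor N y = x

variable {P}

theorem comm_apply {M N : Type u} [AddCommGroup M] [Module A M] [AddCommGroup N] [Module A N] (f : M →ₗ[A] N)
    (i j : ℤ) (x : P.X i ⊗[A] M) :
    f.lTensor (P.X j) ((P.d i j).hom.rTensor M x) = (P.d i j).hom.rTensor N (f.lTensor (P.X i) x) :=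
  LinearMap.congr_fun ((LinearMap.lTensor_comp_rTensor _ _ _).trans (LinearMap.rTensor_comp_lTensor _ _ _).symm) x

theorem dd_apply {N : Type u} [AddCommGroup N] [Module A N] (i j k : ℤ) (x : P.X i ⊗[A] N) :
    (P.d j k).hom.rTensor N ((P.d i j).hom.rTensor N x) = 0 := by
  rw [← LinearMap.comp_apply, ← LinearMap.rTensor_comp,
    show (P.d j k).hom ∘ₗ (P.d i j).hom = 0 from congrArg ModuleCat.Hom.hom (P.d_comp_d i j k),
    LinearMap.rTensor_zero, LinearMap.zero_apply]

section
variable {M N L : Type u} [AddCommGroup M] [Module A M] [AddCommGroup N] [Module A N] [AddCommGroup L] [Module A L]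

theorem Acyc.of_retract (s : N →ₗ[A] M) (r : M →ₗ[A] N) (h : ∀ n, r (s n) = n) (hM : Acyc P M) : Acyc P N :=
  fun i j k hij hjk hj x hx => by
  obtain ⟨y, hy⟩ := hM i j k hij hjk hj (s.lTensor _ x) (by rw [← comm_apply, hx, map_zero])
  refine ⟨r.lTensor _ y, ?_⟩
  rw [← comm_apply, hy, ← LinearMap.comp_apply, ← LinearMap.lTensor_comp,
    show r ∘ₗ s = LinearMap.id from LinearMap.ext h, LinearMap.lTensor_id, LinearMap.id_apply]

theorem Acyc.of_subsingleton [Subsingleton N] : Acyc P N := fun i j k _ _ _ x _ => by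
  refine ⟨0, ?_⟩
  have H : ∀ z : P.X j ⊗[A] N, z = 0 := fun z => by
    induction z using TensorProduct.induction_on with
    | zero => rfl
    | tmul a b => rw [Subsingleton.elim b 0, tmul_zero]
    | add a b ha hb => rw [ha, hb, add_zero]
  rw [map_zero, H x]

variable (hP : ∀ i, Module.Flat A (P.X i))
include hP

theorem Acyc.ext (f : M →ₗ[A] N) (g : N →ₗ[A] L) (hf : Function.Injective f) (hfg : Function.Exact f g)
    (hg : Function.Surjective g) (hM : Acyc P M) (hL : Acyc P L) : Acyc P N := fun i j k hij hjk hj x hx => by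
  obtain ⟨y, hy⟩ := hL i j k hij hjk hj (g.lTensor _ x) (by rw [← comm_apply, hx, map_zero])
  obtain ⟨y, rfl⟩ := LinearMap.lTensor_surjective (P.X i) hg y
  rw [← comm_apply] at hy
  obtain ⟨z, hz⟩ := (lTensor_exact (P.X j) hfg hg _).1
    (show g.lTensor _ (x - (P.d i j).hom.rTensor N y) = 0 by rw [map_sub, hy, sub_self])
  haveI := hP k
  obtain ⟨w, hw⟩ := hM i j k hij hjk hj z (Module.Flat.lTensor_preserves_injective_linearMap (M := P.X k) f hf (by
    rw [comm_apply, hz, map_sub, hx, dd_apply, sub_zero, map_zero]))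
  refine ⟨y + f.lTensor _ w, ?_⟩
  rw [map_add, ← comm_apply, hw, hz, add_sub_cancel]

theorem Acyc.sub (f : M →ₗ[A] N) (g : N →ₗ[A] L) (hf : Function.Injective f) (hfg : Function.Exact f g)
    (hg : Function.Surjective g) (hN : Acyc P N) (hL : Acyc P L) : Acyc P M := fun i j k hij hjk hj x hx => by
  obtain ⟨y, hy⟩ := hN i j k hij hjk hj (f.lTensor _ x) (by rw [← comm_apply, hx, map_zero])
  obtain ⟨w, hw⟩ := hL (i - 1) i j (by omega) hij (by omega) (g.lTensor _ y) (by
    rw [← comm_apply, hy, ← LinearMap.comp_apply, ← LinearMap.lTensor_comp, hfg.linearMap_comp_eq_zero,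
      LinearMap.lTensor_zero, LinearMap.zero_apply])
  obtain ⟨w, rfl⟩ := LinearMap.lTensor_surjective (P.X (i - 1)) hg w
  rw [← comm_apply] at hw
  obtain ⟨z, hz⟩ := (lTensor_exact (P.X i) hfg hg _).1
    (show g.lTensor _ (y - (P.d (i - 1) i).hom.rTensor N w) = 0 by rw [map_sub, hw, sub_self])
  haveI := hP j
  refine ⟨z, Module.Flat.lTensor_preserves_injective_linearMap (M := P.X j) f hf ?_⟩
  rw [comm_apply, hz, map_sub, dd_apply, sub_zero, hy]

theorem Acyc.of_union (K : ℕ → Submodule A N) (hmono : Monotone K) (hK : ∀ x, ∃ n, x ∈ K n)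
    (h : ∀ n, Acyc P (K n)) : Acyc P N := fun i j k hij hjk hj x hx => by
  have hsurj : ∀ z : P.X j ⊗[A] N, ∃ n, z ∈ LinearMap.range ((K n).subtype.lTensor (P.X j)) := by
    intro z
    induction z using TensorProduct.induction_on with
    | zero => exact ⟨0, Submodule.zero_mem _⟩
    | tmul a b =>
      obtain ⟨n, hn⟩ := hK b
      exact ⟨n, a ⊗ₜ ⟨b, hn⟩, rfl⟩
    | add a b ha hb =>
      obtain ⟨n, hn⟩ := ha
      obtain ⟨m, hm⟩ := hb
      have up : ∀ n n' : ℕ, n ≤ n' → LinearMap.range ((K n).subtype.lTensor (P.X j)) ≤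
          LinearMap.range ((K n').subtype.lTensor (P.X j)) := fun n n' e => by
        rw [← Submodule.subtype_comp_inclusion _ _ (hmono e), LinearMap.lTensor_comp]
        exact LinearMap.range_comp_le_range _ _
      exact ⟨max n m, Submodule.add_mem _ (up n _ (le_max_left _ _) hn) (up m _ (le_max_right _ _) hm)⟩
  obtain ⟨n, z, rfl⟩ := hsurj x
  haveI := hP k
  obtain ⟨y, hy⟩ := h n i j k hij hjk hj z
    (Module.Flat.lTensor_preserves_injective_linearMap (M := P.X k) _ (K n).injective_subtype (by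
      rw [comm_apply, hx, map_zero]))
  exact ⟨(K n).subtype.lTensor _ y, by rw [← comm_apply, hy]⟩

end

variable {A₀ : Type u} [CommRing A₀] [IsNoetherianRing A₀] [Algebra A₀ A]
  {ι : Type*} [Finite ι] {B₀ : ι → Type u} [∀ l, CommRing (B₀ l)] [∀ l, Algebra A₀ (B₀ l)]
  [∀ l, Algebra.FiniteType A₀ (B₀ l)]

/-- A torsion module for `g` is acyclic when the modules killed by `g` are. -/
theorem acyc_torsion (hP : ∀ i, Module.Flat A (P.X i)) (g : A) (Q : ∀ (N : Type u) [AddCommGroup N] [Module A N], Prop)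
    (hQsub : ∀ (N : Type u) [AddCommGroup N] [Module A N] (S : Submodule A N), Q N → Q S)
    (hQquot : ∀ (N : Type u) [AddCommGroup N] [Module A N] (S : Submodule A N), Q N → Q (N ⧸ S))
    (hQ : ∀ (N : Type u) [AddCommGroup N] [Module A N], Q N → (∀ n : N, g • n = 0) → Acyc P N)
    (T : Type u) [AddCommGroup T] [Module A T] (hT : Q T) (htor : ∀ t : T, ∃ n : ℕ, g ^ n • t = 0) : Acyc P T := by
  let K : ℕ → Submodule A T := fun n => LinearMap.ker (LinearMap.lsmul A T (g ^ n))
  have hmono : Monotone K := monotone_nat_of_le_succ fun n t ht => by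
    have ht' : g ^ n • t = 0 := ht
    show g ^ (n + 1) • t = 0
    rw [pow_succ', mul_smul, ht', smul_zero]
  refine Acyc.of_union hP K hmono htor fun n => ?_
  induction n with
  | zero =>
    haveI : Subsingleton (K 0) := subsingleton_of_forall_eq 0 fun t => Subtype.ext (by
      have : g ^ 0 • (t : T) = 0 := t.2
      rwa [pow_zero, one_smul] at this)
    exact Acyc.of_subsingleton
  | succ n ih =>
    let e := Submodule.inclusion (hmono (Nat.le_succ n))
    refine Acyc.ext hP e (LinearMap.range e).mkQ (Submodule.inclusion_injective _)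
      (LinearMap.exact_map_mkQ_range e) (Submodule.mkQ_surjective _) ih
      (hQ _ (hQquot _ _ (hQsub T (K (n + 1)) hT)) fun q => ?_)
    obtain ⟨t, rfl⟩ := Submodule.mkQ_surjective _ q
    rw [← map_smul, Submodule.mkQ_apply, Submodule.Quotient.mk_eq_zero]
    refine ⟨⟨g • (t : T), ?_⟩, rfl⟩
    show g ^ n • g • (t : T) = 0
    rw [smul_smul, ← pow_succ]
    exact t.2

/-- Acyclicity of all modules from acyclicity of the base changes along a jointly surjective family. -/
theorem acyc_of_family (hP : ∀ i, Module.Flat A (P.X i))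
    (hsurj : ∀ q : Ideal A, q.IsPrime → ∃ (l : ι) (Q : Ideal (B₀ l)), Q.IsPrime ∧
      Q.comap (algebraMap A₀ (B₀ l)) = q.comap (algebraMap A₀ A))
    (hB : ∀ (l : ι) (N : Type u) [AddCommGroup N] [Module A N] [Module A₀ N] [IsScalarTower A₀ A N],
      Acyc P (N ⊗[A₀] B₀ l))
    (N : Type u) [AddCommGroup N] [Module A N] : Acyc P N := by
  classical
  suffices H : ∀ (I : Ideal A₀) (N : Type u) [AddCommGroup N] [Module A N],
      (∀ a ∈ I, ∀ n : N, algebraMap A₀ A a • n = 0) → Acyc P N from
    H ⊥ N fun a ha n => by rw [(Ideal.mem_bot).1 ha, map_zero, zero_smul]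
  intro I
  induction I using WellFoundedGT.induction with
  | _ I ih =>
  intro N _ _ hN
  have bigger : ∀ a ∉ I, ∀ (M : Type u) [AddCommGroup M] [Module A M],
      (∀ x ∈ I, ∀ m : M, algebraMap A₀ A x • m = 0) → (∀ m : M, algebraMap A₀ A a • m = 0) → Acyc P M := by
    intro a ha M _ _ hI hA
    refine ih (I ⊔ Ideal.span {a}) ?_ M fun x hx m => ?_
    · exact lt_of_le_of_ne le_sup_left fun e => ha (e ▸ Ideal.mem_sup_right (Ideal.mem_span_singleton_self a))
    · obtain ⟨y, hy, z, hz, rfl⟩ := Submodule.mem_sup.1 hx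
      obtain ⟨c, rfl⟩ := Ideal.mem_span_singleton'.1 hz
      rw [map_add, add_smul, hI y hy, map_mul, mul_smul, hA, smul_zero, add_zero]
  by_cases htop : I = ⊤
  · haveI : Subsingleton N := subsingleton_of_forall_eq 0 fun n => by
      simpa using hN 1 (htop ▸ Submodule.mem_top) n
    exact Acyc.of_subsingleton
  by_cases hprime : I.IsPrime
  swap
  · rw [Ideal.isPrime_iff] at hprime
    push Not at hprime
    obtain ⟨a, b, hab, ha, hb⟩ := hprime htop
    let R := LinearMap.range (LinearMap.lsmul A N (algebraMap A₀ A a))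
    refine Acyc.ext hP R.subtype R.mkQ R.injective_subtype (LinearMap.exact_subtype_mkQ R) R.mkQ_surjective
      (bigger b hb R (fun x hx m => Subtype.ext (hN x hx m)) fun m => Subtype.ext ?_)
      (bigger a ha _ (fun x hx m => ?_) fun m => ?_)
    · obtain ⟨m, n, rfl⟩ := m
      show algebraMap A₀ A b • algebraMap A₀ A a • n = 0
      rw [smul_smul, ← map_mul, mul_comm]
      exact hN _ hab n
    · obtain ⟨n, rfl⟩ := R.mkQ_surjective m
      rw [← map_smul, hN x hx, map_zero]
    · obtain ⟨n, rfl⟩ := R.mkQ_surjective m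
      rw [← map_smul, Submodule.mkQ_apply, Submodule.Quotient.mk_eq_zero]
      exact ⟨n, rfl⟩
  -- a prime: invert a denominator making every member free
  haveI := hprime
  haveI := Fintype.ofFinite ι
  choose f hf hfree using fun l => SchDom.exists_generic_free (R := A₀) (S := B₀ l) (M := B₀ l) I
  let g₀ : A₀ := ∏ l, f l
  have hg₀ : g₀ ∉ I := fun h => by
    obtain ⟨l, -, hl⟩ := Ideal.IsPrime.prod_mem_iff.1 h
    exact hf l hl
  let g : A := algebraMap A₀ A g₀
  let Q : ∀ (M : Type u) [AddCommGroup M] [Module A M], Prop := fun M _ _ =>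
    ∀ a ∈ I, ∀ m : M, algebraMap A₀ A a • m = 0
  have torsion : ∀ (T : Type u) [AddCommGroup T] [Module A T], Q T → (∀ t : T, ∃ n : ℕ, g ^ n • t = 0) →
      Acyc P T := fun T _ _ hT htor =>
    acyc_torsion hP g Q (fun M _ _ S h a ha m => Subtype.ext (h a ha m))
      (fun M _ _ S h a ha m => by obtain ⟨m, rfl⟩ := S.mkQ_surjective m; rw [← map_smul, h a ha, map_zero])
      (fun M _ _ hM hg => bigger g₀ hg₀ M hM hg) T hT htor
  let S := Submonoid.powers g
  let N' := LocalizedModule S N
  let ι' : N →ₗ[A] N' := LocalizedModule.mkLinearMap S N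
  have hN' : Q N' := fun a ha m => by
    induction m using LocalizedModule.induction_on with
    | h n s => rw [LocalizedModule.smul'_mk, hN a ha, LocalizedModule.zero_mk]
  have hN'ac : Acyc P N' := by
    by_cases hsub : Subsingleton N'
    · exact Acyc.of_subsingleton
    obtain ⟨q, hq, hIq, hgq⟩ : ∃ q : Ideal A, q.IsPrime ∧ I.map (algebraMap A₀ A) ≤ q ∧ g ∉ q := by
      have hdisj : Disjoint ((I.map (algebraMap A₀ A) : Ideal A) : Set A) (S : Set A) := by
        rw [Set.disjoint_left]
        rintro x hx ⟨n, rfl⟩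
        refine hsub (subsingleton_of_forall_eq 0 fun m => ?_)
        have hkill : ∀ y ∈ I.map (algebraMap A₀ A), y • m = 0 := fun y hy => by
          rw [Ideal.map] at hy
          induction hy using Submodule.span_induction with
          | mem y hy =>
            obtain ⟨a, ha, rfl⟩ := hy
            exact hN' a ha m
          | zero => exact zero_smul _ _
          | add y z _ _ e e' => rw [add_smul, e, e', add_zero]
          | smul c y _ e => rw [smul_eq_mul, mul_smul, e, smul_zero]
        have hu : IsUnit (algebraMap A (Module.End A N') (g ^ n)) :=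
          IsLocalizedModule.map_units ι' (⟨g ^ n, Submonoid.mem_powers_iff _ _ |>.2 ⟨n, rfl⟩⟩ : S)
        exact ((Module.End.isUnit_iff _).1 hu).1 ((hkill _ hx).trans (map_zero _).symm)
      obtain ⟨q, hq, hle, hdq⟩ := Ideal.exists_le_prime_disjoint _ S hdisj
      exact ⟨q, hq, hle, fun h => Set.disjoint_left.1 hdq h ⟨1, pow_one g⟩⟩
    obtain ⟨l, Q', hQ', hQq⟩ := hsurj q hq
    let L := Localization.Away (Ideal.Quotient.mk I (f l))
    haveI := hfree l
    let b := Module.Free.chooseBasis L (L ⊗[A₀] B₀ l)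
    -- the member is nonzero on this stratum
    obtain ⟨i₀⟩ : Nonempty (Module.Free.ChooseBasisIndex L (L ⊗[A₀] B₀ l)) := by
      by_contra hne
      rw [not_nonempty_iff] at hne
      haveI : Subsingleton (L ⊗[A₀] B₀ l) := b.repr.toEquiv.subsingleton
      have hIQ : I ≤ Q'.comap (algebraMap A₀ (B₀ l)) := hQq ▸ fun a ha => hIq (Ideal.mem_map_of_mem _ ha)
      have hfQ : f l ∉ Q'.comap (algebraMap A₀ (B₀ l)) := by
        rw [hQq]
        intro h
        refine hgq ?_
        show algebraMap A₀ A g₀ ∈ q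
        exact Ideal.mem_comap.1 (Ideal.mem_of_dvd _ (Finset.dvd_prod_of_mem f (Finset.mem_univ l)) h)
      let κ := FractionRing (B₀ l ⧸ Q')
      let σ : B₀ l →ₐ[A₀] κ := IsScalarTower.toAlgHom A₀ (B₀ l) κ
      have hσI : ∀ a ∈ I, algebraMap A₀ κ a = 0 := fun a ha => by
        rw [IsScalarTower.algebraMap_apply A₀ (B₀ l) κ, IsScalarTower.algebraMap_apply (B₀ l) (B₀ l ⧸ Q') κ,
          Ideal.Quotient.algebraMap_eq, Ideal.Quotient.eq_zero_iff_mem.2 (Ideal.mem_comap.1 (hIQ ha)), map_zero]
      let ρ₀ : A₀ ⧸ I →+* κ := Ideal.Quotient.lift I (algebraMap A₀ κ) hσI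
      have hu : IsUnit (ρ₀ (Ideal.Quotient.mk I (f l))) := by
        rw [Ideal.Quotient.lift_mk, isUnit_iff_ne_zero, IsScalarTower.algebraMap_apply A₀ (B₀ l) κ,
          IsScalarTower.algebraMap_apply (B₀ l) (B₀ l ⧸ Q') κ]
        intro h
        have h' := (IsFractionRing.injective (B₀ l ⧸ Q') κ) (h.trans (map_zero _).symm)
        rw [Ideal.Quotient.algebraMap_eq] at h'
        exact hfQ (Ideal.mem_comap.2 (Ideal.Quotient.eq_zero_iff_mem.1 h'))
      let ρ : L →ₐ[A₀] κ :=
        { IsLocalization.Away.lift (S := L) _ hu with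
          commutes' := fun a => by
            show IsLocalization.Away.lift (S := L) _ hu (algebraMap A₀ L a) = _
            rw [IsScalarTower.algebraMap_apply A₀ (A₀ ⧸ I) L, IsLocalization.Away.lift_eq]
            rfl }
      have := congrArg (Algebra.TensorProduct.lift ρ σ fun _ _ => Commute.all _ _)
        (Subsingleton.elim (1 : L ⊗[A₀] B₀ l) 0)
      rw [map_one, map_zero] at this
      exact one_ne_zero this
    -- the localized module is a module over the stratum
    let T := Localization.Away (g : A)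
    haveI : IsScalarTower A T N' := inferInstanceAs (IsScalarTower A (Localization S) (LocalizedModule S N))
    letI : Module A₀ N' := Module.compHom N' (algebraMap A₀ A)
    haveI : IsScalarTower A₀ A N' := IsScalarTower.of_algebraMap_smul fun _ _ => rfl
    let χ : T →+* Module.End A N' := (Algebra.lsmul A A N' : T →ₐ[A] Module.End A N').toRingHom
    have hχ : ∀ a : A₀, χ (algebraMap A T (algebraMap A₀ A a)) = algebraMap A (Module.End A N') (algebraMap A₀ A a) :=
      fun a => (Algebra.lsmul A A N' : T →ₐ[A] Module.End A N').commutes _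
    let C := T ⧸ RingHom.ker χ
    let χ₀ : A₀ →+* C := (Ideal.Quotient.mk _).comp ((algebraMap A T).comp (algebraMap A₀ A))
    have hχ₀ : ∀ a ∈ I, χ₀ a = 0 := fun a ha => Ideal.Quotient.eq_zero_iff_mem.2 (by
      rw [RingHom.mem_ker, RingHom.comp_apply, hχ]
      exact LinearMap.ext fun m => hN' a ha m)
    have hu : IsUnit (Ideal.Quotient.lift I χ₀ hχ₀ (Ideal.Quotient.mk I (f l))) := by
      rw [Ideal.Quotient.lift_mk]
      refine isUnit_of_dvd_unit (map_dvd χ₀ (Finset.dvd_prod_of_mem f (Finset.mem_univ l))) ?_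
      exact (IsLocalization.Away.algebraMap_isUnit (S := T) g).map (Ideal.Quotient.mk (RingHom.ker χ))
    let μ : L →+* C := IsLocalization.Away.lift (S := L) _ hu
    have hμ : ∀ a : A₀, μ (algebraMap A₀ L a) = χ₀ a := fun a => by
      rw [IsScalarTower.algebraMap_apply A₀ (A₀ ⧸ I) L]
      exact (IsLocalization.Away.lift_eq _ hu _).trans (Ideal.Quotient.lift_mk _ _ _)
    let act : C →+* Module.End A N' := Ideal.Quotient.lift _ χ fun t ht => ht
    let lam : B₀ l →+ Module.End A N' := AddMonoidHom.mk' (fun c => act (μ (b.coord i₀ (1 ⊗ₜ c))))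
      fun c d => by rw [tmul_add, map_add, map_add, map_add]
    have hlam : ∀ (a : A₀) (c : B₀ l) (m : N'), lam (a • c) m = a • lam c m := fun a c m => by
      show act (μ (b.coord i₀ (1 ⊗ₜ (a • c)))) m = a • act (μ (b.coord i₀ (1 ⊗ₜ c))) m
      rw [tmul_smul, ← algebraMap_smul L a, map_smul, smul_eq_mul, map_mul, map_mul, hμ,
        show act (χ₀ a) = algebraMap A (Module.End A N') (algebraMap A₀ A a) from
          (Ideal.Quotient.lift_mk _ _ _).trans (hχ a)]
      rfl
    have hlin : ∀ (a : A₀) (φ : Module.End A N') (m : N'), φ (a • m) = a • φ m := fun a φ m =>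
      φ.map_smul (algebraMap A₀ A a) m
    let r : N' ⊗[A₀] B₀ l →ₗ[A] N' := TensorProduct.AlgebraTensorModule.lift
      { toFun := fun m =>
          { toFun := fun c => lam c m
            map_add' := fun c d => by rw [map_add, LinearMap.add_apply]
            map_smul' := fun a c => hlam a c m }
        map_add' := fun m m' => LinearMap.ext fun c => map_add (lam c) m m'
        map_smul' := fun a m => LinearMap.ext fun c => map_smul (lam c) a m }
    -- an element whose coordinate acts invertibly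
    obtain ⟨⟨z, hz⟩⟩ : Nonempty {z : B₀ l // IsUnit (lam z)} := by
      suffices hz : ∀ x : L ⊗[A₀] B₀ l, ∃ (n : ℕ) (z : B₀ l),
          algebraMap A₀ L (f l) ^ n • x = (1 : L) ⊗ₜ[A₀] z by
        obtain ⟨n, z, hz⟩ := hz (b i₀)
        refine ⟨⟨z, ?_⟩⟩
        show IsUnit (act (μ (b.coord i₀ (1 ⊗ₜ z))))
        rw [← hz, map_smul, Module.Basis.coord_apply, Module.Basis.repr_self, Finsupp.single_eq_same,
          smul_eq_mul, mul_one, map_pow, map_pow]
        refine (IsUnit.map act ?_).pow n
        refine IsUnit.map μ ?_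
        rw [IsScalarTower.algebraMap_apply A₀ (A₀ ⧸ I) L]
        exact IsLocalization.Away.algebraMap_isUnit (S := L) _
      intro x
      induction x using TensorProduct.induction_on with
      | zero => exact ⟨0, 0, by rw [smul_zero, tmul_zero]⟩
      | tmul c z =>
        obtain ⟨n, a, ha⟩ := IsLocalization.Away.surj (S := L) (Ideal.Quotient.mk I (f l)) c
        obtain ⟨a, rfl⟩ := Ideal.Quotient.mk_surjective a
        refine ⟨n, a • z, ?_⟩
        rw [tmul_smul, smul_tmul', smul_tmul', Algebra.smul_def a (1 : L), mul_one,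
          IsScalarTower.algebraMap_apply A₀ (A₀ ⧸ I) L (f l), IsScalarTower.algebraMap_apply A₀ (A₀ ⧸ I) L a]
        exact congrArg (· ⊗ₜ[A₀] z) ((mul_comm _ c).trans ha)
      | add x y hx hy =>
        obtain ⟨n, z, hz⟩ := hx
        obtain ⟨m, w, hw⟩ := hy
        refine ⟨n + m, f l ^ m • z + f l ^ n • w, ?_⟩
        rw [smul_add, tmul_add, tmul_smul, tmul_smul, ← algebraMap_smul L (f l ^ m), ← algebraMap_smul L (f l ^ n),
          ← hz, ← hw, smul_smul, smul_smul, map_pow, map_pow]
        congr 2 <;> ring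
    let s₀ : N' →ₗ[A] N' ⊗[A₀] B₀ l :=
      { toFun := fun m => m ⊗ₜ z
        map_add' := fun m m' => add_tmul m m' z
        map_smul' := fun a m => rfl }
    let e : N' →ₗ[A] N' := ↑hz.unit⁻¹
    refine Acyc.of_retract (s₀ ∘ₗ e) r (fun m => ?_) (hB l N')
    show lam z (e m) = m
    exact LinearMap.congr_fun hz.mul_val_inv m
  -- the comparison with the localization
  let Kn := LinearMap.ker ι'
  let Im := LinearMap.range ι'
  refine Acyc.ext hP Kn.subtype ι'.rangeRestrict Kn.injective_subtype ?_ ι'.surjective_rangeRestrict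
    (torsion Kn (fun a ha m => Subtype.ext (hN a ha m)) fun t => ?_)
    (Acyc.sub hP Im.subtype Im.mkQ Im.injective_subtype (LinearMap.exact_subtype_mkQ Im) Im.mkQ_surjective hN'ac
      (torsion _ (fun a ha m => ?_) fun m => ?_))
  · exact LinearMap.exact_iff.2 (by rw [LinearMap.ker_rangeRestrict, Submodule.range_subtype])
  · obtain ⟨⟨_, n, rfl⟩, hn⟩ := (IsLocalizedModule.eq_zero_iff S ι').1 t.2
    exact ⟨n, Subtype.ext hn⟩
  · obtain ⟨m, rfl⟩ := Im.mkQ_surjective m
    rw [← map_smul, hN' a ha, map_zero]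
  · obtain ⟨m, rfl⟩ := Im.mkQ_surjective m
    induction m using LocalizedModule.induction_on with
    | h n s =>
      obtain ⟨k, hk⟩ := s.2
      refine ⟨k, ?_⟩
      rw [← map_smul, Submodule.mkQ_apply, Submodule.Quotient.mk_eq_zero]
      refine ⟨n, ?_⟩
      rw [show g ^ k = (s : A) from hk, LocalizedModule.smul'_mk, LocalizedModule.mkLinearMap_apply]
      exact (LocalizedModule.mk_cancel s n).symm

end Groth.Agent.FlatDesc4
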