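import Groth.Agent.Lib.FlatDesc4.Devissage
import Groth.Agent.Lib.DBaseChange.Value
import Mathlib.RingTheory.Extension.Presentation.Core

/-!
# Flatness in degree zero descends along jointly surjective finitely presented algebras
-/

set_option autoImplicit false
set_option linter.style.haveILetI false
set_option backward.isDefEq.respectTransparency false
set_option maxHeartbeats 1000000

universe u

open CategoryTheory Limits TensorProduct

attribute [local instance] HasDerivedCategory.standard

namespace Groth.Agent.FlatDesc4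

variable {A B : Type u} [CommRing A] [CommRing B]

/-- Acyclicity for a module over an algebra, read after base change. -/
theorem acyc_of_algebra {P : DRing.Cx A} (φ : A →+* B) (M : Type u) [AddCommGroup M] [Module A M] [Module B M]
    (hM : ∀ (a : A) (m : M), φ a • m = a • m)
    (h : DBaseChange.TorBound ((DBaseChange.extCx φ).obj P) 0 0) : Acyc P M := by
  intro i j k hij hjk hj x hx
  letI := φ.toAlgebra
  haveI : IsScalarTower A B M := IsScalarTower.of_algebraMap_smul hM
  let Q := (DBaseChange.extCx φ).obj P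
  let e : ∀ d, (P.X d ⊗[A] M) ≃+ (Q.X d ⊗[B] M) := fun d =>
    ((TensorProduct.comm A (P.X d) M).toAddEquiv.trans
      (TensorProduct.AlgebraTensorModule.cancelBaseChange A B B M (P.X d)).symm.toAddEquiv).trans
      (TensorProduct.comm B M (Q.X d)).toAddEquiv
  have he : ∀ d p m, e d (p ⊗ₜ m) = ((1 : B) ⊗ₜ[A] p : B ⊗[A] P.X d) ⊗ₜ[B] m := fun d p m => rfl
  have hd : ∀ a b z, e b ((P.d a b).hom.rTensor M z) = (Q.d a b).hom.rTensor M (e a z) := fun a b z => by
    induction z using TensorProduct.induction_on with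
    | zero => simp
    | tmul p m =>
      rw [LinearMap.rTensor_tmul, he, he]
      rfl
    | add z z' ha hb => rw [map_add, map_add, ha, hb, map_add, map_add]
  have hsub : Subsingleton (((DBaseChange.tm (ModuleCat.of B M)).obj Q).homology j) :=
    (DMod.subsingleton_HD_toD_iff _ j).1 ((DMod.isGE_iff _ 0).1 (h (ModuleCat.of B M)).1 j hj)
  obtain ⟨y, hy⟩ := (DMod.subsingleton_homology_iff ((DBaseChange.tm (ModuleCat.of B M)).obj Q) (i := i) (k := k)
    (by rw [CochainComplex.prev]; omega) (by rw [CochainComplex.next]; omega)).1 hsub (e j x) (by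
      change (Q.d j k).hom.rTensor M (e j x) = 0
      rw [← hd, hx, map_zero])
  change (Q.d i j).hom.rTensor M y = e j x at hy
  exact ⟨(e i).symm y, (e j).injective (by rw [hd, AddEquiv.apply_symm_apply, hy])⟩

/-- Tor amplitude zero descends along a jointly surjective family of finitely presented algebras. -/
theorem torAmp_zero_of_family {ι : Type} [Finite ι] {B : ι → Type u} [∀ l, CommRing (B l)] (φ : ∀ l, A →+* B l) (hfp : ∀ l, (φ l).FinitePresentation)
    (hsurj : ∀ q : Ideal A, q.IsPrime → ∃ (l : ι) (Q : Ideal (B l)), Q.IsPrime ∧ Q.comap (φ l) = q)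
    (P : DRing.Cx A) [P.IsStrictlyLE 0] (hP : ∀ i, Module.Flat A (P.X i))
    (h : ∀ l, DBaseChange.TorBound ((DBaseChange.extCx (φ l)).obj P) 0 0) :
    DRing.HasTorAmplitudeIn A 0 0 (DRing.toD P) := by
  classical
  haveI := Fintype.ofFinite ι
  letI algB : ∀ l, Algebra A (B l) := fun l => (φ l).toAlgebra
  haveI : ∀ l, Algebra.FinitePresentation A (B l) := hfp
  let pr := fun l => Algebra.Presentation.ofFinitePresentation A (B l)
  let S : Set A := ⋃ l, (pr l).coeffs
  have hS : S.Finite := Set.finite_iUnion fun l => (pr l).finite_coeffs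
  let A₀ := Algebra.adjoin ℤ S
  haveI : Algebra.FiniteType ℤ A₀ := (Subalgebra.fg_iff_finiteType A₀).1 (Subalgebra.fg_def.2 ⟨S, hS, rfl⟩)
  haveI : IsNoetherianRing A₀ := Algebra.FiniteType.isNoetherianRing ℤ A₀
  haveI : ∀ l, (pr l).HasCoeffs A₀ := fun l => ⟨fun a ha =>
    ⟨⟨a, Algebra.subset_adjoin (Set.mem_iUnion.2 ⟨l, ha⟩)⟩, rfl⟩⟩
  let M₀ := fun l => (pr l).ModelOfHasCoeffs A₀
  let eB : ∀ l, A ⊗[A₀] M₀ l ≃ₐ[A] B l := fun l => (pr l).tensorModelOfHasCoeffsEquiv A₀
  have hN : ∀ (N : Type u) [AddCommGroup N] [Module A N], Acyc P N := by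
    intro N _ _
    refine acyc_of_family (A₀ := A₀) (B₀ := M₀) hP (fun q hq => ?_) (fun l N _ _ _ _ => ?_) N
    · obtain ⟨l, Q, hQ, e⟩ := hsurj q hq
      refine ⟨l, Q.comap ((eB l).toRingHom.comp (Algebra.TensorProduct.includeRight : M₀ l →ₐ[A₀] A ⊗[A₀] M₀ l).toRingHom),
        inferInstance, ?_⟩
      rw [← e, Ideal.comap_comap, Ideal.comap_comap]
      congr 1
      refine RingHom.ext fun a => ?_
      show eB l ((1 : A) ⊗ₜ algebraMap A₀ (M₀ l) a) = algebraMap A (B l) (algebraMap A₀ A a)
      rw [Algebra.algebraMap_eq_smul_one a, tmul_smul, smul_tmul', Algebra.smul_def a (1 : A), mul_one]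
      exact (eB l).commutes (algebraMap A₀ A a)
    · let e : N ⊗[A₀] M₀ l ≃ₗ[A] B l ⊗[A] N :=
        (TensorProduct.AlgebraTensorModule.cancelBaseChange A₀ A A N (M₀ l)).symm ≪≫ₗ
          (TensorProduct.congr (LinearEquiv.refl A N) (eB l).toLinearEquiv) ≪≫ₗ TensorProduct.comm A N (B l)
      exact Acyc.of_retract e.toLinearMap e.symm.toLinearMap e.symm_apply_apply
        (acyc_of_algebra (φ l) (B l ⊗[A] N) (fun a m => algebraMap_smul (B l) a m) (h l))
  refine DBaseChange.hasTorAmplitudeIn_of_torBound P 0 hP 0 0 fun M => ⟨(DMod.isGE_iff _ 0).2 fun j hj => ?_, ?_⟩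
  · refine (DMod.subsingleton_HD_toD_iff _ j).2 ((DMod.subsingleton_homology_iff _ (i := j - 1) (k := j + 1)
      (by simp) (by simp)).2 fun x hx => ?_)
    exact hN M (j - 1) j (j + 1) (by ring) rfl hj x hx
  · haveI : ((DBaseChange.tm M).obj P).IsStrictlyLE 0 := (CochainComplex.isStrictlyLE_iff _ 0).2 fun i hi =>
      Functor.map_isZero (MonoidalCategory.tensorRight M) (P.isZero_of_isStrictlyLE 0 i hi)
    exact inferInstanceAs ((DerivedCategory.Q.obj ((DBaseChange.tm M).obj P)).IsLE 0)

end Groth.Agent.FlatDesc4
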