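import Groth.Agent.Lib.FlatDesc4.Ring
import Groth.Agent.Lib.DQC.Pull
import Groth.Agent.Lib.DQC.Tensor
import Groth.Agent.Lib.DPerf.OneDegree
import Groth.Agent.Lib.KFlat.BcCases
import Groth.Prelude.Def_DDual2

/-!
# Flatness in degree zero descends along surjective morphisms of finite presentation
-/

set_option autoImplicit false
set_option linter.style.haveILetI false
set_option backward.isDefEq.respectTransparency false
set_option maxHeartbeats 1000000

universe u

open CategoryTheory Limits AlgebraicGeometry TopologicalSpace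

attribute [local instance] HasDerivedCategory.standard

namespace Groth.Agent.FlatDesc4

/-- Flatness is stable under restriction. -/
theorem isFlat_restrict {X Z : Scheme.{u}} (j : Z ⟶ X) [IsOpenImmersion j] {M : X.Modules} (h : FlatMod.IsFlat M) :
    FlatMod.IsFlat (M.restrict j) :=
  (KFlat.Sch.isFlat_iff _).1 ((KFlat.Sch.isFlat_pullback j ((KFlat.Sch.isFlat_iff _).2 h)).of_iso
    ((Scheme.Modules.restrictFunctorIsoPullback j).app M))

/-- A complex with flat cohomology in degree zero only has tor amplitude zero. -/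
theorem torAmp_zero_of_homology {A : Type u} [CommRing A] (Q : DRing.Cx A) [Q.IsStrictlyLE 0]
    (h : ∀ i : ℤ, i ≠ 0 → IsZero ((DerivedCategory.homologyFunctor _ i).obj (DRing.toD Q)))
    (hfl : Module.Flat A ((DerivedCategory.homologyFunctor (ModuleCat.{u} A) 0).obj (DRing.toD Q))) :
    DRing.HasTorAmplitudeIn A 0 0 (DRing.toD Q) := by
  haveI : (DRing.toD Q).IsLE 0 := (DerivedCategory.isLE_iff _ 0).2 fun i hi => h i (by omega)
  haveI : (DRing.toD Q).IsGE 0 := (DerivedCategory.isGE_iff _ 0).2 fun i hi => h i (by omega)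
  obtain ⟨Y, ⟨e⟩⟩ := DerivedCategory.exists_iso_singleFunctor_obj_of_isGE_of_isLE (DRing.toD Q) 0
  let eY : (DerivedCategory.homologyFunctor (ModuleCat.{u} A) 0).obj (DRing.toD Q) ≅ Y :=
    (DerivedCategory.homologyFunctor _ 0).mapIso e ≪≫ (DerivedCategory.singleFunctorCompHomologyFunctorIso _ 0).app Y
  haveI : Module.Flat A Y := Module.Flat.of_linearEquiv eY.symm.toLinearEquiv
  refine ⟨(HomologicalComplex.single (ModuleCat.{u} A) (ComplexShape.up ℤ) 0).obj Y,
    fun i hi => HomologicalComplex.isZero_single_obj_X _ _ _ _ (by omega), fun i => ?_,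
    ⟨((DerivedCategory.singleFunctorIsoCompQ (ModuleCat.{u} A) 0).app Y).symm ≪≫ e.symm⟩⟩
  by_cases hi : i = 0
  · subst hi
    exact Module.Flat.of_linearEquiv (HomologicalComplex.singleObjXSelf (ComplexShape.up ℤ) 0 Y).toLinearEquiv
  · haveI := ModuleCat.subsingleton_of_isZero
      (HomologicalComplex.isZero_single_obj_X (ComplexShape.up ℤ) 0 Y i hi)
    infer_instance

/-- The affine case. -/
theorem exists_flat_chart {A : CommRingCat.{u}} (K : DCoh.D (Spec A)) (hK : DCoh.IsQCohD K)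
    (hpos : ∀ i : ℤ, 0 < i → IsZero (DCoh.HD K i)) {ι : Type} [Finite ι] (B : ι → CommRingCat.{u})
    (φ : ∀ l, A ⟶ B l) (hfp : ∀ l, (φ l).hom.FinitePresentation) [∀ l, DCoh.HasLpull (Spec.map (φ l))]
    (hsurj : ∀ z : Spec A, ∃ l, z ∈ Set.range (Spec.map (φ l)))
    (h : ∀ l (i : ℤ), (i ≠ 0 → IsZero (DCoh.HD ((DCoh.Lpull (Spec.map (φ l))).obj K) i)) ∧
      (i = 0 → FlatMod.IsFlat (DCoh.HD ((DCoh.Lpull (Spec.map (φ l))).obj K) i))) :
    (∀ i : ℤ, i ≠ 0 → IsZero (DCoh.HD K i)) ∧ FlatMod.IsFlat (DCoh.HD K 0) := by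
  obtain ⟨M, ⟨eM⟩⟩ := DQC.exists_iso_of_isQCohD K hK
  haveI : M.IsLE 0 := (DerivedCategory.isLE_iff M 0).2 fun i hi => DPerf.isZero_of_tilde
    ((hpos i hi).of_iso ((DPerf.hdTildeIso M i).symm ≪≫ (DerivedCategory.homologyFunctor _ i).mapIso eM))
  obtain ⟨P, hP0, hPf, ⟨eP⟩⟩ := DMod.exists_free_resolution M 0
  haveI := hP0
  have hflat : ∀ i, Module.Flat A (P.X i) := fun i => by haveI := hPf i; infer_instance
  have hQ : ∀ l, DBaseChange.TorBound ((DBaseChange.extCx (φ l).hom).obj P) 0 0 := fun l => by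
    let Q := (DBaseChange.extCx (φ l).hom).obj P
    haveI : Q.IsStrictlyLE 0 := (CochainComplex.isStrictlyLE_iff _ 0).2 fun i hi =>
      Functor.map_isZero (ModuleCat.extendScalars (φ l).hom) (P.isZero_of_isStrictlyLE 0 i hi)
    have hQf : ∀ i, Module.Flat (B l) (Q.X i) := fun i => by
      haveI := hflat i
      letI := (φ l).hom.toAlgebra
      exact inferInstanceAs (Module.Flat (B l) (TensorProduct A (B l) (P.X i)))
    haveI := DQC.hasLBaseChange (φ l).hom
    let e₁ : (DRing.LBaseChange (φ l).hom).obj (DRing.toD P) ≅ DRing.toD Q :=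
      KFlat.derivedObjIso (KFlat.Module.cover (R := A)) (ModuleCat.extendScalars (φ l).hom)
        (fun C => KFlat.IsKFlat (KFlat.Module.TM A) C) (fun C => KFlat.isKFlat_resObj _ C KFlat.Module.isFlat_cover)
        (fun g _ hK hK' => KFlat.Module.quasiIso_extendScalars_map (φ l).hom g hK hK') P
        (KFlat.isKFlat_of_boundedAbove_flat P 0 fun i => (KFlat.Module.isFlat_iff _).2 (hflat i))
    let e : (DPerf.tildeDD (B l)).obj (DRing.toD Q) ≅ (DCoh.Lpull (Spec.map (φ l))).obj K :=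
      (DPerf.tildeDD (B l)).mapIso (e₁.symm ≪≫ (DRing.LBaseChange (φ l).hom).mapIso eP) ≪≫
        (KFlat.Sch.lpullTildeIso (φ l)).app M ≪≫ (DCoh.Lpull (Spec.map (φ l))).mapIso eM
    let eh := fun i => (DPerf.hdTildeIso (DRing.toD Q) i).symm ≪≫ (DerivedCategory.homologyFunctor _ i).mapIso e
    refine DBaseChange.torBound_of_hasTorAmplitudeIn Q 0 hQf 0 0 (torAmp_zero_of_homology Q (fun i hi => ?_) ?_)
    · exact DPerf.isZero_of_tilde (((h l i).1 hi).of_iso (eh i))
    · exact DPerf.flat_of_isFlat_tilde ((KFlat.Sch.isFlat_iff _).1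
        (((KFlat.Sch.isFlat_iff _).2 ((h l 0).2 rfl)).of_iso (eh 0)))
  have hs : ∀ q : Ideal A, q.IsPrime → ∃ (l : ι) (Q : Ideal (B l)), Q.IsPrime ∧ Q.comap (φ l).hom = q := fun q hq => by
    obtain ⟨l, w, hw⟩ := hsurj ⟨q, hq⟩
    exact ⟨l, w.asIdeal, w.isPrime, congrArg PrimeSpectrum.asIdeal hw⟩
  obtain ⟨E, hE, hEf, ⟨eE⟩⟩ := torAmp_zero_of_family (fun l => (φ l).hom) hfp hs P hflat hQ
  let eK : (DPerf.tildeDD A).obj (DRing.toD E) ≅ K := (DPerf.tildeDD A).mapIso (eE ≪≫ eP) ≪≫ eM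
  let eh := fun i => (DPerf.hdTildeIso (DRing.toD E) i).symm ≪≫ (DerivedCategory.homologyFunctor _ i).mapIso eK
  have hz : ∀ i : ℤ, i ≠ 0 → IsZero ((DerivedCategory.homologyFunctor _ i).obj (DRing.toD E)) := fun i hi => by
    refine IsZero.of_iso ?_ ((DerivedCategory.homologyFunctorFactors _ i).app E)
    exact (HomologicalComplex.ExactAt.of_isZero (hE i (by omega))).isZero_homology
  refine ⟨fun i hi => ((tilde.functor A).map_isZero (hz i hi)).of_iso (eh i).symm, ?_⟩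
  haveI := hEf 0
  have hd1 : E.d 0 1 = 0 := (hE 1 (by omega)).eq_of_tgt _ _
  have hd0 : E.d (-1) 0 = 0 := (hE (-1) (by omega)).eq_of_src _ _
  let eH : E.X 0 ≅ (DerivedCategory.homologyFunctor (ModuleCat.{u} A) 0).obj (DRing.toD E) :=
    (ShortComplex.HomologyData.ofZeros (E.sc 0) (by
      show E.d ((ComplexShape.up ℤ).prev 0) 0 = 0
      rw [CochainComplex.prev]; exact hd0) (by
      show E.d 0 ((ComplexShape.up ℤ).next 0) = 0
      rw [CochainComplex.next]; exact hd1)).left.homologyIso.symm ≪≫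
      ((DerivedCategory.homologyFunctorFactors _ 0).app E).symm
  haveI : Module.Flat A ((DerivedCategory.homologyFunctor (ModuleCat.{u} A) 0).obj (DRing.toD E)) :=
    Module.Flat.of_linearEquiv eH.symm.toLinearEquiv
  exact (KFlat.Sch.isFlat_iff _).1 (((KFlat.Sch.isFlat_iff _).2 (DPerf.isFlat_tilde
    (N := (DerivedCategory.homologyFunctor (ModuleCat.{u} A) 0).obj (DRing.toD E)))).of_iso (eh 0).symm)

open AlgebraicGeometry in
/-- Flatness in degree zero descends. -/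
theorem exists_flat_inD {X S : Scheme.{u}} (f : X ⟶ S) [Surjective f]
    [LocallyOfFinitePresentation f] [QuasiCompact f] [DCoh.HasLpull f]
    (M : DCoh.D S) (hM : DCoh.IsQCohD M) (hpos : ∀ i : ℤ, 0 < i → IsZero (DCoh.HD M i))
    (F : X.Modules) (hF : FlatMod.IsFlat F) (eF : (DCoh.Lpull f).obj M ≅ DCoh.inD X F) :
    ∃ G : S.Modules, FlatMod.IsFlat G ∧ Nonempty (M ≅ DCoh.inD S G) := by
  classical
  have local_ : ∀ x : S, ∃ (A : CommRingCat.{u}) (i : Spec A ⟶ S) (_ : IsOpenImmersion i), x ∈ Set.range i ∧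
      (∀ n : ℤ, n ≠ 0 → IsZero ((DCoh.HD M n).restrict i)) ∧ FlatMod.IsFlat ((DCoh.HD M 0).restrict i) := fun x => by
    obtain ⟨V, hV, hxV, -⟩ := TopologicalSpace.Opens.isBasis_iff_nbhd.1 S.isBasis_affineOpens
      (TopologicalSpace.Opens.mem_top x)
    have hc : IsCompact ((f ⁻¹ᵁ V : X.Opens) : Set X) := f.isCompact_preimage hV.isCompact
    have cov : ∀ y : (f ⁻¹ᵁ V : X.Opens), ∃ W : X.Opens, IsAffineOpen W ∧ (y : X) ∈ W ∧ W ≤ f ⁻¹ᵁ V := fun y =>
      exists_isAffineOpen_mem_and_subset (U := f ⁻¹ᵁ V) y.2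
    choose W hW hyW hWV using cov
    obtain ⟨t, ht⟩ := hc.elim_finite_subcover (fun y => (W y : Set X)) (fun y => (W y).isOpen)
      fun y hy => Set.mem_iUnion.2 ⟨⟨y, hy⟩, hyW _⟩
    let ι := Fin t.card
    let yl : ι → (f ⁻¹ᵁ V : X.Opens) := fun l => (t.equivFin.symm l).1
    let φ : ∀ l, Γ(S, V) ⟶ Γ(X, W (yl l)) := fun l => f.appLE V (W (yl l)) (hWV _)
    haveI : ∀ l, DCoh.HasLpull (Spec.map (φ l)) := fun l => KFlat.Sch.hasLpull _
    have sq : ∀ l, Spec.map (φ l) ≫ hV.fromSpec = (hW (yl l)).fromSpec ≫ f := fun l =>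
      hV.SpecMap_appLE_fromSpec f (hW _) (hWV _)
    let K := (DPerf.resD hV.fromSpec).obj M
    have hsurj : ∀ z : Spec Γ(S, V), ∃ l, z ∈ Set.range (Spec.map (φ l)) := fun z => by
      obtain ⟨y, hy⟩ := f.surjective (hV.fromSpec z)
      have hyV : y ∈ f ⁻¹ᵁ V := by
        show f y ∈ V
        rw [hy, ← SetLike.mem_coe, ← hV.range_fromSpec]
        exact ⟨z, rfl⟩
      obtain ⟨y', hy't, hyW'⟩ := Set.mem_iUnion₂.1 (ht hyV)
      let l : ι := t.equivFin ⟨y', hy't⟩
      have hl : yl l = y' := by simp [yl, l]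
      have hyl : y ∈ (W (yl l) : Set X) := hl.symm ▸ hyW'
      rw [← (hW (yl l)).range_fromSpec] at hyl
      obtain ⟨w, hw⟩ := hyl
      refine ⟨l, w, hV.fromSpec.isOpenEmbedding.injective ?_⟩
      rw [← Scheme.Hom.comp_apply, sq, Scheme.Hom.comp_apply, hw, hy]
    have hh : ∀ l (i : ℤ), (i ≠ 0 → IsZero (DCoh.HD ((DCoh.Lpull (Spec.map (φ l))).obj K) i)) ∧
        (i = 0 → FlatMod.IsFlat (DCoh.HD ((DCoh.Lpull (Spec.map (φ l))).obj K) i)) := fun l i => by
      obtain ⟨e⟩ := DQC.nonempty_chart_iso f hV.fromSpec (hW (yl l)).fromSpec (Spec.map (φ l)) (sq l) M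
      let eh : DCoh.HD ((DCoh.Lpull (Spec.map (φ l))).obj K) i ≅ (DCoh.HD (DCoh.inD X F) i).restrict (hW (yl l)).fromSpec :=
        (DerivedCategory.homologyFunctor _ i).mapIso (e.symm ≪≫ (DPerf.resD _).mapIso eF) ≪≫
          DPerf.hdResIso _ _ i
      refine ⟨fun hi => ((Scheme.Modules.restrictFunctor _).map_isZero ?_).of_iso eh, fun hi => ?_⟩
      · rcases lt_or_gt_of_ne hi with hlt | hgt
        · exact DerivedCategory.isZero_of_isGE (DCoh.inD X F) 0 i hlt
        · exact DerivedCategory.isZero_of_isLE (DCoh.inD X F) 0 i hgt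
      · subst hi
        refine (KFlat.Sch.isFlat_iff _).1 (((KFlat.Sch.isFlat_iff _).2 (isFlat_restrict (hW (yl l)).fromSpec hF)).of_iso ?_)
        exact eh ≪≫ (Scheme.Modules.restrictFunctor _).mapIso
          ((DerivedCategory.singleFunctorCompHomologyFunctorIso _ 0).app F)
    obtain ⟨h1, h2⟩ := exists_flat_chart K (DQC.isQCohD_resD _ hM)
      (fun i hi => ((Scheme.Modules.restrictFunctor _).map_isZero (hpos i hi)).of_iso (DPerf.hdResIso _ _ i))
      _ φ (fun l => f.finitePresentation_appLE hV (hW _) (hWV _)) hsurj hh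
    refine ⟨_, hV.fromSpec, inferInstance, by rw [hV.range_fromSpec]; exact hxV,
      fun n hn => (h1 n hn).of_iso (DPerf.hdResIso _ _ n).symm, ?_⟩
    exact (KFlat.Sch.isFlat_iff _).1 (((KFlat.Sch.isFlat_iff _).2 h2).of_iso (DPerf.hdResIso _ _ 0).symm)
  have hz : ∀ n : ℤ, n ≠ 0 → IsZero (DCoh.HD M n) := fun n hn => DPerf.isZero_of_stalks fun x => by
    obtain ⟨A, i, hi, ⟨z, hz⟩, h, -⟩ := local_ x
    subst hz
    by_contra hne
    refine (M1.subsingleton_stalk_restrict_iff i _ z).2 hne ?_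
    exact AddCommGrpCat.subsingleton_of_isZero ((M1.stalkAb z).map_isZero (h n hn))
  haveI : M.IsLE 0 := (DerivedCategory.isLE_iff M 0).2 fun i hi => hz i (by omega)
  haveI : M.IsGE 0 := (DerivedCategory.isGE_iff M 0).2 fun i hi => hz i (by omega)
  obtain ⟨G, ⟨eG⟩⟩ := DerivedCategory.exists_iso_singleFunctor_obj_of_isGE_of_isLE M 0
  let e0 : DCoh.HD M 0 ≅ G := (DerivedCategory.homologyFunctor _ 0).mapIso eG ≪≫
    (DerivedCategory.singleFunctorCompHomologyFunctorIso _ 0).app G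
  refine ⟨G, DPerf.isFlat_of_locally fun x => ?_, ⟨eG⟩⟩
  obtain ⟨A, i, hi, hx, -, h⟩ := local_ x
  have hr : Set.range i.opensRange.ι ⊆ Set.range i := by rw [Scheme.Opens.range_ι]; rfl
  refine ⟨i.opensRange, hx, (KFlat.Sch.isFlat_iff _).1 (((KFlat.Sch.isFlat_iff _).2
    (isFlat_restrict (IsOpenImmersion.lift i i.opensRange.ι hr) h)).of_iso ?_)⟩
  exact (Scheme.Modules.restrictFunctor _).mapIso e0.symm ≪≫ (M1.restrictLiftIso _ i i.opensRange.ι hr).symm

end Groth.Agent.FlatDesc4
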